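import Mathlib
import Cfsg.Agent.S1247
import Cfsg.Agent.Solvable.Zipper
import Cfsg.Agent.Lib.ComponentSolvable
import Cfsg.Agent.ClassificationK.GF2Basics
import Cfsg.Agent.Classification.GWDefs
import Cfsg.Agent.Classification.TypeB.Core
import Cfsg.Agent.OddOrderLocal.NilpotentHall
set_option linter.all false

/-!
# Type Z of the Gorenstein–Walter theorem: consequences of Bender's theorem S1247

`H = C(t)` is a maximal subgroup; for `x ∈ F(H)` we control the `O_q(C(x))`.
-/

set_option autoImplicit false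

namespace Cfsg.Agent.Classification.TypeZ.Bender

open Subgroup Cfsg
open Cfsg.Agent.Classification.TypeB.Basic Cfsg.Agent.Classification.TypeB.Core
open Cfsg.Agent.OddOrderLocal Cfsg.Agent.OddOrderLocal.PiCoreOf
open Cfsg.Agent.Classification.DihedralCentral Cfsg.Agent.Classification.TransferSign
open Cfsg.Agent.Classification.DihReduction Cfsg.Agent.Classification.DihStructure
open Cfsg.Agent.Classification.DihMinimal Cfsg.Agent.Classification.GWDefs

universe u

section general

variable {G : Type*} [Group G] [Finite G]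

theorem bender [IsSimpleGroup G] (hna : ¬ IsMulCommutative G) (A : Subgroup G) (hA : IsCoatom A)
    (hs : Group.IsSolvable A) {x : G} (hx : x ∈ fittingOf A) :
    (∀ q : ℕ, q.Prime → ¬ q ∣ Nat.card (fittingOf A) → piCoreOf {q} (centralizer {x}) ⊓ A = ⊥) ∧
    (∀ p : ℕ, p.Prime → p ∣ Nat.card (fittingOf A) → ∀ y ∈ piCoreOf {p} (centralizer {x}),
      ∀ z ∈ fittingOf A, (orderOf z).Coprime p → y * z = z * y) := by
  have hgf : generalizedFittingSubgroup A = fittingSubgroup A :=
    Cfsg.Agent.ClassificationK.GF2Basics.genFitting_eq_fitting_of_isSolvable inferInstance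
  have hcard : Nat.card (fittingOf A) = Nat.card (fittingSubgroup A) :=
    card_map_of_injective A.subtype_injective
  have h := Cfsg.Agent.S1247.result hna A hA (fittingOf A ⊓ centralizer {x}) ?_ ?_ ?_
    (centralizer {x}) inf_le_right
  · refine ⟨fun q hq hqA => ?_, fun p hp hpA y hy z hz hzp => ?_⟩
    · rw [← FitCores.map_pCore_eq hq]
      exact h.1 q hq (by rwa [← hcard])
    · obtain ⟨w, hw, rfl⟩ := hz
      rw [← FitCores.map_pCore_eq hp] at hy
      refine h.2 p hp (by rwa [← hcard]) y hy w ⟨⟨w, by rw [hgf]; exact hw⟩, ?_, rfl⟩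
      apply Subgroup.subset_closure
      show Nat.Coprime (orderOf _) p
      rw [Subgroup.orderOf_mk]
      rwa [coe_subtype, Subgroup.orderOf_coe] at hzp
  · rw [hgf]; exact inf_le_left
  · rw [hgf]
    exact Cfsg.Agent.Solvable.Zipper.isSubnormal_of_isNilpotent
      (FitAux.isNilpotent_fittingOf A) _
  · rw [hgf]
    rintro y ⟨hyF, hyC⟩
    refine ⟨hyF, ?_⟩
    have h1 : x ∈ ((fittingOf A ⊓ centralizer {x} : Subgroup G) : Set G) := ⟨hx, by
      show x ∈ centralizer {x}
      rw [mem_centralizer_singleton_iff]⟩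
    have h2 := mem_centralizer_iff.1 hyC x h1
    exact mem_centralizer_singleton_iff.2 h2.symm

end general

/-- Type Z of the minimal counterexample to the Gorenstein–Walter theorem: `C(t)` is a maximal
subgroup. -/
structure ZHyp (G : Type u) [Group G] [Finite G] (t : G) : Prop where
  ft : OddOrder.{u}
  simple : IsSimpleGroup G
  nonab : ¬ IsMulCommutative G
  sub : SubDihedral G
  alt : SubAlt G
  one : ∀ u v : G, IsInv u → IsInv v → IsConj u v
  inv : IsInv t
  max : IsCoatom (centralizer ({t} : Set G))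

section

variable {G : Type u} [Group G] [Finite G] {t : G}

/-- `K_v = O(C(v))` -/
def Kc (v : G) : Subgroup G := oc (centralizer ({v} : Set G))

theorem kc_def (v : G) : Kc v = oc (centralizer ({v} : Set G)) := rfl

theorem mem_Kc_iff (hG : SubDihedral G) {v y : G} (hv : IsInv v) :
    y ∈ Kc v ↔ y * v = v * y ∧ Odd (orderOf y) := by
  constructor
  · intro hy
    refine ⟨mem_centralizer_singleton_iff.1 (oc_le _ hy), ?_⟩
    have h1 : orderOf (⟨y, hy⟩ : Kc v) ∣ Nat.card (Kc v) := orderOf_dvd_natCard _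
    rw [Subgroup.orderOf_mk] at h1
    exact (odd_oc _).of_dvd_nat h1
  · rintro ⟨hy, ho⟩
    obtain ⟨N, hN, hNo, k, hk⟩ := exists_of_oddClosed (oddClosed_centralizer hG hv.2 hv.1)
    have hyC : y ∈ centralizer ({v} : Set G) := mem_centralizer_singleton_iff.2 hy
    have h1 : N.map (centralizer ({v} : Set G)).subtype ≤ Kc v := by
      apply le_oc (map_subtype_le _)
      · intro g hg
        apply mem_normalizer_of_conj
        rintro _ ⟨n, hn, rfl⟩
        exact ⟨⟨g, hg⟩ * n * ⟨g, hg⟩⁻¹, hN.conj_mem n hn _, rfl⟩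
      · rw [card_map_of_injective (subtype_injective _)]
        exact hNo
    apply h1
    refine ⟨⟨y, hyC⟩, ?_, rfl⟩
    have : N.Normal := hN
    show (⟨y, hyC⟩ : centralizer {v}) ∈ N
    rw [← QuotientGroup.eq_one_iff, ← orderOf_eq_one_iff, ← Nat.dvd_one]
    have h2 : orderOf (QuotientGroup.mk (s := N) ⟨y, hyC⟩) ∣ orderOf (⟨y, hyC⟩ : centralizer {v}) :=
      orderOf_map_dvd (QuotientGroup.mk' N) _
    rw [Subgroup.orderOf_mk] at h2
    have h3 : orderOf (QuotientGroup.mk (s := N) ⟨y, hyC⟩) ∣ 2 ^ k := by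
      rw [← hk]
      exact orderOf_dvd_natCard _
    have h4 : Nat.Coprime (orderOf y) (2 ^ k) := Nat.Coprime.pow_right k
      (Nat.coprime_two_right.2 ho)
    rw [← h4.gcd_eq_one]
    exact Nat.dvd_gcd h2 h3

theorem odd_Kc (v : G) : Odd (Nat.card (Kc v)) := odd_oc _

theorem odd_orderOf_of_mem {X : Subgroup G} (hX : Odd (Nat.card X)) {y : G} (hy : y ∈ X) :
    Odd (orderOf y) := by
  have h1 : orderOf (⟨y, hy⟩ : X) ∣ Nat.card X := orderOf_dvd_natCard _
  rw [Subgroup.orderOf_mk] at h1
  exact hX.of_dvd_nat h1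

theorem le_Kc (hG : SubDihedral G) {v : G} (hv : IsInv v) {X : Subgroup G}
    (hX : Odd (Nat.card X)) (hc : X ≤ centralizer ({v} : Set G)) : X ≤ Kc v := fun y hy =>
  (mem_Kc_iff hG hv).2 ⟨mem_centralizer_singleton_iff.1 (hc hy), odd_orderOf_of_mem hX hy⟩

theorem Kc_le (v : G) : Kc v ≤ centralizer ({v} : Set G) := oc_le _

theorem conj_Kc (hG : SubDihedral G) {v g : G} (hv : IsInv v) :
    (Kc v).map (MulAut.conj g).toMonoidHom = Kc (g * v * g⁻¹) := by
  have key : ∀ (w a : G), IsInv w → ∀ y ∈ Kc w, a * y * a⁻¹ ∈ Kc (a * w * a⁻¹) := by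
    intro w a hw y hy
    rw [mem_Kc_iff hG hw] at hy
    rw [mem_Kc_iff hG (hw.conj a)]
    constructor
    · calc a * y * a⁻¹ * (a * w * a⁻¹) = a * (y * w) * a⁻¹ := by group
        _ = a * (w * y) * a⁻¹ := by rw [hy.1]
        _ = _ := by group
    · have : orderOf (a * y * a⁻¹) = orderOf y :=
        orderOf_injective (MulAut.conj a).toMonoidHom (MulAut.conj a).injective y
      rw [this]
      exact hy.2
  apply le_antisymm
  · rintro _ ⟨y, hy, rfl⟩
    exact key v g hv y hy
  · intro y hy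
    refine ⟨g⁻¹ * y * g, ?_, ?_⟩
    · have := key (g * v * g⁻¹) g⁻¹ (hv.conj g) y hy
      have h2 : g⁻¹ * (g * v * g⁻¹) * g⁻¹⁻¹ = v := by group
      rw [h2, inv_inv] at this
      exact this
    · show g * (g⁻¹ * y * g) * g⁻¹ = y
      group

theorem card_Kc_eq (hG : SubDihedral G) {v w : G} (hv : IsInv v) (h : IsConj v w) :
    Nat.card (Kc w) = Nat.card (Kc v) := by
  obtain ⟨g, rfl⟩ := isConj_iff.1 h
  rw [← conj_Kc hG hv, card_map_of_injective (MulAut.conj g).injective]

theorem normalizer_Kc_le (v : G) : centralizer ({v} : Set G) ≤ normalizer (Kc v : Set G) :=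
  le_normalizer_oc _

namespace ZHyp

theorem of_inv (h : ZHyp G t) {v : G} (hv : IsInv v) : ZHyp G v := by
  refine ⟨h.ft, h.simple, h.nonab, h.sub, h.alt, h.one, hv, ?_⟩
  obtain ⟨g, rfl⟩ := isConj_iff.1 (h.one t v h.inv hv)
  have h1 : centralizer ({g * t * g⁻¹} : Set G) =
      (centralizer ({t} : Set G)).map (MulAut.conj g).toMonoidHom := by
    ext y
    rw [mem_centralizer_singleton_iff]
    constructor
    · intro hy
      refine ⟨g⁻¹ * y * g, ?_, ?_⟩
      · show g⁻¹ * y * g ∈ centralizer {t}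
        rw [mem_centralizer_singleton_iff]
        calc g⁻¹ * y * g * t = g⁻¹ * (y * (g * t * g⁻¹)) * g := by group
          _ = g⁻¹ * ((g * t * g⁻¹) * y) * g := by rw [hy]
          _ = _ := by group
      · show g * (g⁻¹ * y * g) * g⁻¹ = y
        group
    · rintro ⟨z, hz, rfl⟩
      have hz' : z * t = t * z := mem_centralizer_singleton_iff.1 hz
      show g * z * g⁻¹ * (g * t * g⁻¹) = g * t * g⁻¹ * (g * z * g⁻¹)
      calc g * z * g⁻¹ * (g * t * g⁻¹) = g * (z * t) * g⁻¹ := by group
        _ = g * (t * z) * g⁻¹ := by rw [hz']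
        _ = _ := by group
  rw [h1]
  exact ((MulEquiv.mapSubgroup (MulAut.conj g)).isCoatom_iff _).2 h.max

theorem ne_top (h : ZHyp G t) : centralizer ({t} : Set G) ≠ ⊤ := h.max.1

theorem mem_self (t : G) : t ∈ centralizer ({t} : Set G) := mem_centralizer_singleton_iff.2 rfl

theorem eq_top_of_lt (h : ZHyp G t) {X : Subgroup G} (hX : centralizer ({t} : Set G) ≤ X)
    {y : G} (hy : y ∈ X) (hyt : y * t ≠ t * y) : X = ⊤ := by
  apply h.max.2
  refine lt_of_le_of_ne hX ?_
  rintro rfl
  exact hyt (mem_centralizer_singleton_iff.1 hy)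

theorem eq_bot_of_normal (h : ZHyp G t) {X : Subgroup G} (hX : X ≠ ⊤)
    (hn : normalizer (X : Set G) = ⊤) : X = ⊥ := by
  have := h.simple
  have hN : X.Normal := normalizer_eq_top_iff.1 hn
  rcases hN.eq_bot_or_eq_top with h1 | h1
  · exact h1
  · exact absurd h1 hX

theorem commute_of_mem_normalizer (h : ZHyp G t) {X : Subgroup G} (hX : X ≠ ⊤) (hX1 : X ≠ ⊥)
    (hn : centralizer ({t} : Set G) ≤ normalizer (X : Set G)) {y : G}
    (hy : y ∈ normalizer (X : Set G)) : y * t = t * y := by
  by_contra hne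
  exact hX1 (h.eq_bot_of_normal hX (h.eq_top_of_lt hn hy hne))

theorem ne_top_of_odd (h : ZHyp G t) {X : Subgroup G} (hX : Odd (Nat.card X)) : X ≠ ⊤ := by
  rintro rfl
  have h1 := odd_orderOf_of_mem hX (mem_top t)
  rw [h.inv.orderOf_eq] at h1
  exact absurd h1 (by decide)

theorem eq_of_centralizer_le (h : ZHyp G t) {v : G} (hv : IsInv v)
    (hle : centralizer ({v} : Set G) ≤ centralizer ({t} : Set G)) : v = t := by
  obtain ⟨g, rfl⟩ := isConj_iff.1 (h.one t v h.inv hv)
  have h1 : ∀ y, y ∈ centralizer ({t} : Set G) → g * y * g⁻¹ ∈ centralizer ({t} : Set G) := by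
    intro y hy
    apply hle
    rw [mem_centralizer_singleton_iff] at hy ⊢
    calc g * y * g⁻¹ * (g * t * g⁻¹) = g * (y * t) * g⁻¹ := by group
      _ = g * (t * y) * g⁻¹ := by rw [hy]
      _ = _ := by group
  have h2 : g ∈ normalizer ((centralizer ({t} : Set G) : Subgroup G) : Set G) :=
    mem_normalizer_of_conj h1
  have h3 := h.commute_of_mem_normalizer h.ne_top
    (fun hb => h.inv.2 ((mem_bot).1 (hb ▸ mem_self t))) le_normalizer h2
  rw [h3]
  group

/-- A four-group containing `t` does not centralise `K_t ≠ 1`. -/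
theorem core_eq_bot (h : ZHyp G t) {u : G} (hu : IsInv u) (hne : u ≠ t)
    (hle : Kc t ≤ centralizer ({u} : Set G)) : Kc t = ⊥ := by
  have h1 : Kc t ≤ Kc u := le_Kc h.sub hu (odd_Kc t) hle
  have h2 : Kc t = Kc u := by
    apply Subgroup.eq_of_le_of_card_ge h1
    rw [card_Kc_eq h.sub h.inv (h.one t u h.inv hu)]
  by_contra hK
  have h3 : centralizer ({u} : Set G) ≤ centralizer ({t} : Set G) := by
    intro y hy
    rw [mem_centralizer_singleton_iff]
    apply h.commute_of_mem_normalizer (h.ne_top_of_odd (odd_Kc t)) hK (normalizer_Kc_le t)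
    rw [h2]
    exact normalizer_Kc_le u hy
  exact hne (h.eq_of_centralizer_le hu h3)

theorem solvable (h : ZHyp G t) : Group.IsSolvable (centralizer ({t} : Set G)) :=
  isSolvable_of_oddClosed h.ft (oddClosed_centralizer h.sub h.inv.2 h.inv.1)

theorem mem_fittingOf (h : ZHyp G t) : t ∈ fittingOf (centralizer ({t} : Set G)) := by
  have h1 : zpowers t ≤ fittingOf (centralizer ({t} : Set G)) := by
    have := Fact.mk Nat.prime_two
    refine FitAux.le_fittingOf ?_ ?_ h.inv.isPGroup.isNilpotent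
    · rw [zpowers_le]; exact mem_self t
    · intro y hy
      rw [mem_centralizer_singleton_iff] at hy
      apply mem_normalizer_of_conj
      rintro _ ⟨n, rfl⟩
      have h2 : Commute y (t ^ n) := (show Commute y t from hy).zpow_right n
      have h3 : y * t ^ n * y⁻¹ = t ^ n := by rw [h2.eq]; group
      show y * t ^ n * y⁻¹ ∈ zpowers t
      rw [h3]
      exact ⟨n, rfl⟩
  exact h1 (mem_zpowers t)

theorem fitting_Kc_le (t : G) : fittingOf (Kc t) ≤ fittingOf (centralizer ({t} : Set G)) :=
  FitAux.le_fittingOf ((FitAux.fittingOf_le _).trans (Kc_le t))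
    ((normalizer_Kc_le t).trans (NilpotentHall.normalizer_le_normalizer_fittingOf _))
    (FitAux.isNilpotent_fittingOf _)

theorem core_le (h : ZHyp G t) {x : G} (hx : x ∈ fittingOf (centralizer ({t} : Set G))) {p : ℕ}
    (hp : p.Prime) (h2 : p ≠ 2) (hpF : p ∣ Nat.card (fittingOf (centralizer ({t} : Set G)))) :
    piCoreOf {p} (centralizer ({x} : Set G)) ≤ centralizer ({t} : Set G) := by
  have := h.simple
  intro y hy
  rw [mem_centralizer_singleton_iff]
  refine (bender h.nonab _ h.max h.solvable hx).2 p hp hpF y hy t h.mem_fittingOf ?_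
  rw [h.inv.orderOf_eq]
  exact (Nat.coprime_primes Nat.prime_two hp).2 (Ne.symm h2)

theorem core_inf (h : ZHyp G t) {x : G} (hx : x ∈ fittingOf (centralizer ({t} : Set G))) {p : ℕ}
    (hp : p.Prime) (hpF : ¬ p ∣ Nat.card (fittingOf (centralizer ({t} : Set G)))) :
    piCoreOf {p} (centralizer ({x} : Set G)) ⊓ centralizer ({t} : Set G) = ⊥ := by
  have := h.simple
  exact (bender h.nonab _ h.max h.solvable hx).1 p hp hpF

theorem core_two (h : ZHyp G t) {x : G} (hx : x ∈ fittingOf (centralizer ({t} : Set G))) {y z : G}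
    (hy : y ∈ piCoreOf {2} (centralizer ({x} : Set G))) (hz : z ∈ fittingOf (Kc t)) :
    y * z = z * y := by
  have := h.simple
  refine (bender h.nonab _ h.max h.solvable hx).2 2 Nat.prime_two ?_ y hy z (fitting_Kc_le t hz) ?_
  · rw [← h.inv.orderOf_eq, ← Subgroup.orderOf_mk t h.mem_fittingOf]
    exact orderOf_dvd_natCard _
  · rw [Nat.coprime_two_right]
    exact odd_orderOf_of_mem (odd_Kc t) (FitAux.fittingOf_le _ hz)

end ZHyp

/-- A good pair: `x ∈ F(K_t)` is centralised by the four-group `⟨t, u⟩`, and `⟨t, u⟩` is fused in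
`C(x)`. -/
structure Good (t u x : G) : Prop where
  inv_u : IsInv u
  comm : t * u = u * t
  ne : u ≠ t
  mem : x ∈ fittingOf (Kc t)
  ne_one : x ≠ 1
  comm_u : x * u = u * x
  fused : ∃ h : G, h * x = x * h ∧ h * t * h⁻¹ = u ∧ h * u * h⁻¹ = t * u

namespace Good

variable {u x : G}

theorem mem_Kc (g : Good t u x) : x ∈ Kc t := FitAux.fittingOf_le _ g.mem

theorem comm_t (g : Good t u x) : x * t = t * x :=
  mem_centralizer_singleton_iff.1 (Kc_le t g.mem_Kc)

theorem mem_fit (g : Good t u x) : x ∈ fittingOf (centralizer ({t} : Set G)) :=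
  ZHyp.fitting_Kc_le t g.mem

theorem inv_mul (h : ZHyp G t) (g : Good t u x) : IsInv (t * u) :=
  h.inv.mul g.inv_u g.comm g.ne.symm

/-- `O_p(C(x))` is centralised by `t` for odd `p`. -/
theorem core_le (h : ZHyp G t) (g : Good t u x) {p : ℕ} (hp : p.Prime) (h2 : p ≠ 2) :
    piCoreOf {p} (centralizer ({x} : Set G)) ≤ centralizer ({t} : Set G) := by
  by_cases hpF : p ∣ Nat.card (fittingOf (centralizer ({t} : Set G)))
  · exact h.core_le g.mem_fit hp h2 hpF
  · have h1 := h.core_inf g.mem_fit hp hpF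
    obtain ⟨k, hkx, hkt, hku⟩ := g.fused
    set Q := piCoreOf {p} (centralizer ({x} : Set G)) with hQ
    have hn : centralizer ({x} : Set G) ≤ normalizer (Q : Set G) := le_normalizer_piCoreOf _ _
    have hk : k ∈ normalizer (Q : Set G) := hn (mem_centralizer_singleton_iff.2 hkx)
    have htn : t ∈ normalizer (Q : Set G) := hn (mem_centralizer_singleton_iff.2 g.comm_t.symm)
    have hun : u ∈ normalizer (Q : Set G) := hn (mem_centralizer_singleton_iff.2 g.comm_u.symm)
    have hodd : Odd (Nat.card Q) := odd_of_isPGroup hp h2 (FitCores.isPGroup_piCoreOf hp _)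
    have step : ∀ v w : G, k * v * k⁻¹ = w → Q ⊓ centralizer ({v} : Set G) = ⊥ →
        Q ⊓ centralizer ({w} : Set G) = ⊥ := by
      intro v w hvw hv
      rw [eq_bot_iff]
      rintro y ⟨hyQ, hyw⟩
      have h3 : k⁻¹ * y * k ∈ Q ⊓ centralizer ({v} : Set G) := by
        refine ⟨?_, ?_⟩
        · have := (mem_normalizer_iff.1 (inv_mem hk) y).1 hyQ
          rwa [inv_inv] at this
        · show k⁻¹ * y * k ∈ centralizer {v}
          rw [mem_centralizer_singleton_iff]
          have h4 : y * w = w * y := mem_centralizer_singleton_iff.1 hyw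
          rw [← hvw] at h4
          calc k⁻¹ * y * k * v = k⁻¹ * (y * (k * v * k⁻¹)) * k := by group
            _ = k⁻¹ * ((k * v * k⁻¹) * y) * k := by rw [h4]
            _ = _ := by group
      rw [hv, mem_bot] at h3
      rw [mem_bot]
      calc y = k * (k⁻¹ * y * k) * k⁻¹ := by group
        _ = 1 := by rw [h3]; group
    have h3 := step t u hkt h1
    have h4 := step u (t * u) hku h3
    have h5 : Q ≤ ⊥ := le_of_four hodd h.inv g.inv_u g.comm htn hun h1.le h3.le h4.le
    exact h5.trans bot_le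

theorem oc_le_centralizer (h : ZHyp G t) (g : Good t u x) :
    oc (centralizer ({x} : Set G)) ≤ centralizer ({t} : Set G) := by
  set O := oc (centralizer ({x} : Set G)) with hO
  have hodd : Odd (Nat.card O) := odd_oc _
  have hsol : Group.IsSolvable O := h.ft O hodd
  have htO : zpowers t ≤ normalizer (O : Set G) := by
    rw [zpowers_le]
    exact le_normalizer_oc _ (mem_centralizer_singleton_iff.2 g.comm_t.symm)
  rw [← zpowers_le_centralizer_iff]
  apply FitCores.le_centralizer_of_centralizes_fitting htO hsol (coprime_of_odd hodd h.inv)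
  rw [zpowers_le_centralizer_iff, FitCores.fittingOf_le_iff]
  intro q hq
  by_cases h2 : q = 2
  · subst h2
    have h3 : piCoreOf {2} O = ⊥ := by
      by_contra hne
      obtain ⟨y, hy, hy2⟩ := FitCores.exists_mem_orderOf Nat.prime_two
        (FitCores.dvd_card_of_ne_bot Nat.prime_two (FitCores.isPGroup_piCoreOf Nat.prime_two O)
          hne (piCoreOf_le _ _))
      have h4 := odd_orderOf_of_mem hodd hy
      rw [hy2] at h4
      exact absurd h4 (by decide)
    rw [h3]
    exact bot_le
  · refine le_trans ?_ (g.core_le h hq h2)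
    exact FitCores.le_core_of_isPGroup hq ((piCoreOf_le _ _).trans (oc_le _))
      ((le_normalizer_oc _).trans (normalizer_le_normalizer_piCoreOf _ _))
      (FitCores.isPGroup_piCoreOf hq _)

/-- `⟨t, u⟩` centralises `O(C(x))`. -/
theorem oc_le_centralizer_u (h : ZHyp G t) (g : Good t u x) :
    oc (centralizer ({x} : Set G)) ≤ centralizer ({u} : Set G) := by
  obtain ⟨k, hkx, hkt, hku⟩ := g.fused
  have hk : k ∈ normalizer (oc (centralizer ({x} : Set G)) : Set G) :=
    le_normalizer_oc _ (mem_centralizer_singleton_iff.2 hkx)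
  intro y hy
  have h1 : k⁻¹ * y * k ∈ oc (centralizer ({x} : Set G)) := by
    have := (mem_normalizer_iff.1 (inv_mem hk) y).1 hy
    rwa [inv_inv] at this
  have h2 := mem_centralizer_singleton_iff.1 (g.oc_le_centralizer h h1)
  rw [mem_centralizer_singleton_iff, ← hkt]
  calc y * (k * t * k⁻¹) = k * (k⁻¹ * y * k * t) * k⁻¹ := by group
    _ = k * (t * (k⁻¹ * y * k)) * k⁻¹ := by rw [h2]
    _ = _ := by group

end Good

end

end Cfsg.Agent.Classification.TypeZ.Bender
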