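import Mathlib
import Cfsg.Agent.S1258
import Cfsg.Agent.Classification.TypeZ.Bender
set_option linter.all false

/-!
# Type Z of the Gorenstein–Walter theorem: the component of `C(x)`
-/

set_option autoImplicit false

namespace Cfsg.Agent.Classification.TypeZ.Comp

open Subgroup Cfsg
open Cfsg.Agent.Classification.TypeB.Basic Cfsg.Agent.Classification.TypeB.Core
open Cfsg.Agent.OddOrderLocal Cfsg.Agent.OddOrderLocal.PiCoreOf
open Cfsg.Agent.Classification.DihedralCentral Cfsg.Agent.Classification.TransferSign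
open Cfsg.Agent.Classification.DihReduction Cfsg.Agent.Classification.DihStructure
open Cfsg.Agent.Classification.DihMinimal Cfsg.Agent.Classification.TypeZ.Bender
open Cfsg.Agent.TwoFusion.DihedralFusion

universe u

section intrinsic

variable {H : Type*} [Group H]

/-- The four-group `⟨t, u⟩` is fused by `k`. -/
structure Fused (t u k : H) : Prop where
  inv_t : IsInv t
  inv_u : IsInv u
  comm : t * u = u * t
  ne : u ≠ t
  conj_t : k * t * k⁻¹ = u
  conj_u : k * u * k⁻¹ = t * u

namespace Fused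

variable {t u k : H}

theorem inv_tu (h : Fused t u k) : IsInv (t * u) := h.inv_t.mul h.inv_u h.comm h.ne.symm

theorem conj_tu (h : Fused t u k) : k * (t * u) * k⁻¹ = t := by
  calc k * (t * u) * k⁻¹ = (k * t * k⁻¹) * (k * u * k⁻¹) := by group
    _ = u * (t * u) := by rw [h.conj_t, h.conj_u]
    _ = (t * u) * u := by rw [← mul_assoc, h.comm]
    _ = t := by rw [mul_assoc, h.inv_u.1, mul_one]

/-- The four-group `⟨t, u⟩`. -/
def four (h : Fused t u k) : Subgroup H := fourGroup t u h.inv_t.1 h.inv_u.1 h.comm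

theorem four_def (h : Fused t u k) : h.four = fourGroup t u h.inv_t.1 h.inv_u.1 h.comm := rfl

theorem mem_four (h : Fused t u k) {y : H} :
    y ∈ h.four ↔ y = 1 ∨ y = t ∨ y = u ∨ y = t * u := by
  rw [four_def, mem_fourGroup]

theorem isKleinFour (h : Fused t u k) : IsKleinFour h.four :=
  isKleinFour_fourGroup h.inv_t.1 h.inv_u.1 h.comm h.inv_t.2 h.inv_u.2 h.ne.symm

theorem card_four (h : Fused t u k) : Nat.card h.four = 4 := h.isKleinFour.card_four

theorem four_le (h : Fused t u k) {X : Subgroup H} (ht : t ∈ X) (hu : u ∈ X) : h.four ≤ X :=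
  fourGroup_le _ _ _ ht hu

theorem all_mem_of_ne (h : Fused t u k) {N : Subgroup H} (hN : N.Normal) {y : H}
    (hy : y ∈ h.four) (hyN : y ∈ N) (hy1 : y ≠ 1) : t ∈ N ∧ u ∈ N := by
  have h1 : t ∈ N → u ∈ N := fun ht => by rw [← h.conj_t]; exact hN.conj_mem _ ht _
  have h2 : t * u ∈ N → t ∈ N := fun ht => by
    rw [← h.conj_tu]; exact hN.conj_mem _ ht _
  have h3 : u ∈ N → t * u ∈ N := fun ht => by
    rw [← h.conj_u]; exact hN.conj_mem _ ht _
  rcases h.mem_four.1 hy with rfl | rfl | rfl | rfl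
  · exact absurd rfl hy1
  · exact ⟨hyN, h1 hyN⟩
  · exact ⟨h2 (h3 hyN), hyN⟩
  · exact ⟨h2 hyN, h1 (h2 hyN)⟩

/-- A normal subgroup whose index is not divisible by `4` contains the fused four-group. -/
theorem mem_of_index [Finite H] (h : Fused t u k) {N : Subgroup H} (hN : N.Normal)
    (h4 : ¬ 4 ∣ N.index) : t ∈ N ∧ u ∈ N := by
  by_contra hcon
  apply h4
  have hinj : Function.Injective ((QuotientGroup.mk' N).comp h.four.subtype) := by
    rw [injective_iff_map_eq_one]
    intro y hy
    by_contra hy1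
    apply hcon
    refine h.all_mem_of_ne hN y.2 ?_ (fun hh => hy1 (Subtype.ext hh))
    rw [← QuotientGroup.eq_one_iff]
    exact hy
  rw [← h.card_four, index_eq_card]
  exact card_dvd_of_injective _ hinj

/-- `⟨t, u⟩` is not fused by a group with `k` of 2-power order modulo a subgroup centralising
`t`. -/
theorem false_of_pow (h : Fused t u k) (n : ℕ) (hk : k ^ 2 ^ n * t = t * k ^ 2 ^ n) : False := by
  have h3 : k ^ 3 * t = t * k ^ 3 := by
    have h4 : k ^ 3 * t * (k ^ 3)⁻¹ = t := by
      calc k ^ 3 * t * (k ^ 3)⁻¹ = k * (k * (k * t * k⁻¹) * k⁻¹) * k⁻¹ := by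
            simp only [pow_succ, pow_zero, one_mul, mul_inv_rev, mul_assoc]
        _ = t := by rw [h.conj_t, h.conj_u, h.conj_tu]
    exact mul_inv_eq_iff_eq_mul.1 h4
  have hc : IsCoprime (3 : ℤ) ((2 ^ n : ℕ) : ℤ) := by
    have : Nat.Coprime 3 (2 ^ n) := Nat.Coprime.pow_right n (by norm_num)
    exact_mod_cast Nat.isCoprime_iff_coprime.2 this
  obtain ⟨a, b, hab⟩ := hc
  have hk1 : k ∈ centralizer ({t} : Set H) := by
    have h5 : k = (k ^ 3) ^ a * (k ^ 2 ^ n) ^ b := by
      rw [← zpow_natCast k 3, ← zpow_natCast k (2 ^ n), ← zpow_mul, ← zpow_mul, ← zpow_add,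
        mul_comm _ a, mul_comm _ b]
      have h6 : a * ((3 : ℕ) : ℤ) + b * ((2 ^ n : ℕ) : ℤ) = 1 := hab
      rw [h6, zpow_one]
    rw [h5]
    exact mul_mem (zpow_mem (mem_centralizer_singleton_iff.2 h3) _)
      (zpow_mem (mem_centralizer_singleton_iff.2 hk) _)
  apply h.ne
  rw [← h.conj_t, mem_centralizer_singleton_iff.1 hk1]
  group

theorem map (h : Fused t u k) {K : Type*} [Group K] (f : H →* K)
    (hf : ∀ y ∈ h.four, f y = 1 → y = 1) : Fused (f t) (f u) (f k) := by
  have ht : t ∈ h.four := h.mem_four.2 (by tauto)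
  have hu : u ∈ h.four := h.mem_four.2 (by tauto)
  refine ⟨⟨?_, ?_⟩, ⟨?_, ?_⟩, ?_, ?_, ?_, ?_⟩
  · rw [← map_mul, h.inv_t.1, map_one]
  · exact fun hh => h.inv_t.2 (hf t ht hh)
  · rw [← map_mul, h.inv_u.1, map_one]
  · exact fun hh => h.inv_u.2 (hf u hu hh)
  · rw [← map_mul, h.comm, map_mul]
  · intro hh
    apply h.ne
    have h1 : f (u * t⁻¹) = 1 := by rw [map_mul, map_inv, hh, mul_inv_cancel]
    have h2 := hf _ (mul_mem hu (inv_mem ht)) h1
    exact mul_inv_eq_one.1 h2
  · rw [← map_inv, ← map_mul, ← map_mul, h.conj_t]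
  · rw [← map_inv, ← map_mul, ← map_mul, h.conj_u, map_mul]

end Fused

/-- A perfect subgroup of a solvable subgroup is trivial. -/
theorem eq_bot_of_perfect {P S : Subgroup H} (hP : ⁅P, P⁆ = P) (hS : Group.IsSolvable S)
    (h : P ≤ S) : P = ⊥ := by
  by_contra hne
  have h1 : Group.IsPerfect P := Subgroup.isPerfect_iff.2 hP
  have h2 : Nontrivial P := (Subgroup.nontrivial_iff_ne_bot P).2 hne
  exact Group.IsPerfect.not_isSolvable P
    (Group.isSolvable_of_isSolvable_injective (f := Subgroup.inclusion h) (Subgroup.inclusion_injective h))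

/-- A perfect subgroup of `N S`, `S` solvable, `N` normal, lies in `N`. -/
theorem le_of_perfect {P N S : Subgroup H} (hN : N.Normal) (hP : ⁅P, P⁆ = P)
    (hS : Group.IsSolvable S) (h : P ≤ N ⊔ S) : P ≤ N := by
  have h1 : P.map (QuotientGroup.mk' N) ≤ S.map (QuotientGroup.mk' N) := by
    refine (Subgroup.map_mono h).trans ?_
    rw [Subgroup.map_sup]
    have : N.map (QuotientGroup.mk' N) = ⊥ := by
      rw [Subgroup.map_eq_bot_iff, QuotientGroup.ker_mk']
    rw [this, bot_sup_eq]
  have h2 : P.map (QuotientGroup.mk' N) = ⊥ := by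
    apply eq_bot_of_perfect (S := S.map (QuotientGroup.mk' N)) _ _ h1
    · rw [← Subgroup.map_commutator, hP]
    · exact Group.isSolvable_of_surjective (f := (QuotientGroup.mk' N).subgroupMap S)
        ((QuotientGroup.mk' N).subgroupMap_surjective S)
  rwa [Subgroup.map_eq_bot_iff, QuotientGroup.ker_mk'] at h2

/-- A perfect subgroup is contained in a normal subgroup with solvable quotient. -/
theorem le_of_perfect_quotient {P N : Subgroup H} [N.Normal] (hP : ⁅P, P⁆ = P)
    (hS : Group.IsSolvable (H ⧸ N)) : P ≤ N := by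
  have h2 : P.map (QuotientGroup.mk' N) = ⊥ := by
    apply eq_bot_of_perfect (S := ⊤) _ _ le_top
    · rw [← Subgroup.map_commutator, hP]
    · exact Group.isSolvable_of_isSolvable_injective (f := (⊤ : Subgroup (H ⧸ N)).subtype)
        (subtype_injective _)
  rwa [Subgroup.map_eq_bot_iff, QuotientGroup.ker_mk'] at h2

/-- A central extension of a nonabelian simple group. -/
theorem center_of_surjective {A M : Type*} [Group A] [Group M] (hM : IsSimpleGroup M)
    (hna : ¬ IsMulCommutative M) (f : A →* M) (hf : Function.Surjective f)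
    (hk : f.ker ≤ center A) : center A = f.ker := by
  have h1 : center M = ⊥ := by
    rcases (inferInstance : (center M).Normal).eq_bot_or_eq_top with h | h
    · exact h
    · exfalso
      apply hna
      rw [isMulCommutative_iff]
      intro a b
      have ha : a ∈ center M := by rw [h]; exact mem_top a
      exact ((mem_center_iff.1 ha) b).symm
  apply le_antisymm _ hk
  intro y hy
  rw [MonoidHom.mem_ker, ← mem_bot, ← h1, mem_center_iff]
  intro m
  obtain ⟨a, rfl⟩ := hf m
  rw [← map_mul, ← map_mul, (mem_center_iff.1 hy) a]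

theorem nonempty_equiv_of_surjective {A M : Type*} [Group A] [Group M] (hM : IsSimpleGroup M)
    (hna : ¬ IsMulCommutative M) (f : A →* M) (hf : Function.Surjective f)
    (hk : f.ker ≤ center A) : Nonempty (A ⧸ center A ≃* M) :=
  ⟨(QuotientGroup.quotientMulEquivOfEq (center_of_surjective hM hna f hf hk)).trans
    (QuotientGroup.quotientKerEquivOfSurjective f hf)⟩

theorem isSolvable_of_not_four_dvd (hFT : OddOrder.{u}) {T : Type u} [Group T] [Finite T]
    (h : ¬ 4 ∣ Nat.card T) : Group.IsSolvable T := by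
  have : Fact (Nat.Prime 2) := ⟨Nat.prime_two⟩
  obtain ⟨P⟩ : Nonempty (Sylow 2 T) := inferInstance
  apply isSolvable_of_oddClosed hFT
  apply oddClosed_of_isCyclic P
  obtain ⟨n, hn⟩ := (IsPGroup.iff_card.1 P.2)
  have h1 : Nat.card P ∣ Nat.card T := card_subgroup_dvd_card _
  rw [hn] at h1
  have hn1 : n ≤ 1 := by
    by_contra hcon
    push Not at hcon
    exact h ((pow_dvd_pow 2 hcon).trans h1)
  apply isCyclic_of_card_dvd_prime (p := 2)
  rw [hn]
  exact (pow_dvd_pow 2 hn1).trans (by norm_num)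

end intrinsic

section main

variable {H : Type u} [Group H] [Finite H]

/-- The data of the component (intrinsic version). -/
structure IsCompI (O L : Subgroup H) : Prop where
  normal : L.Normal
  cent : L ≤ centralizer (O : Set H)
  perfect : ⁅L, L⁆ = L
  simple : IsSimpleGroup (L ⧸ center L)
  gw : GWConcl (L ⧸ center L)
  center_eq : (center L).map L.subtype = L ⊓ O
  perf_le : ∀ P : Subgroup H, ⁅P, P⁆ = P → P ≤ L

theorem eq_one_of_four {t u k : H} (h : Fused t u k) {O : Subgroup H} (hodd : Odd (Nat.card O))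
    {y : H} (hy : y ∈ h.four) (hyO : y ∈ O) : y = 1 := by
  apply eq_one_of_sq hodd hyO
  have := sq_of_mem_fourGroup h.inv_t.1 h.inv_u.1 h.comm hy
  exact this

omit [Finite H] in
theorem mul_mem_of_odd {L O : Subgroup H} (hodd : Odd (Nat.card O)) {l o : H} (hl : l ∈ L)
    (ho : o ∈ O) (hc : l * o = o * l) (hlo : (l * o) * (l * o) = 1) : l * o ∈ L := by
  have hm : (l * o) ^ Nat.card O = l * o := by
    obtain ⟨m, hm⟩ := hodd
    rw [hm, pow_add, pow_mul, sq, hlo, one_pow, one_mul, pow_one]
  have h1 : (l * o) ^ Nat.card O = l ^ Nat.card O * o ^ Nat.card O :=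
    (show Commute l o from hc).mul_pow _
  have h2 : o ^ Nat.card O = 1 := by
    have := pow_card_eq_one' (G := O) (x := ⟨o, ho⟩)
    exact congrArg Subtype.val this
  rw [h2, mul_one] at h1
  rw [← hm, h1]
  exact pow_mem hl _

theorem exists_of_simple (hFT : OddOrder.{u}) {O : Subgroup H} [hO : O.Normal]
    (hodd : Odd (Nat.card O)) (M : Subgroup (H ⧸ O)) (hMn : M.Normal) (hMs : IsSimpleGroup M)
    (hM4 : ¬ 4 ∣ M.index) (hGW : GWConcl M) {t u k : H} (h : Fused t u k)
    (hOt : O ≤ centralizer ({t} : Set H)) (hOu : O ≤ centralizer ({u} : Set H)) :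
    ∃ L : Subgroup H, IsCompI O L ∧ t ∈ L ∧ u ∈ L := by
  set π := QuotientGroup.mk' O with hπ
  have hπs : Function.Surjective π := QuotientGroup.mk'_surjective O
  have hπO : ∀ y, π y = 1 ↔ y ∈ O := fun y => QuotientGroup.eq_one_iff y
  have hfb : Fused (π t) (π u) (π k) :=
    h.map π (fun y hy hy1 => eq_one_of_four h hodd hy ((hπO y).1 hy1))
  obtain ⟨htM, huM⟩ := hfb.mem_of_index hMn hM4
  set B0 := M.comap π with hB0
  have hB0n : B0.Normal := hMn.comap π
  set C0 := B0 ⊓ centralizer (O : Set H) with hC0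
  have hC0n : C0.Normal := inferInstance
  have htC : t ∈ C0 := mem_inf.2 ⟨htM, mem_centralizer_iff.2
    (fun y hy => mem_centralizer_singleton_iff.1 (hOt hy))⟩
  have huC : u ∈ C0 := mem_inf.2 ⟨huM, mem_centralizer_iff.2
    (fun y hy => mem_centralizer_singleton_iff.1 (hOu hy))⟩
  -- `M` is not commutative
  have hMna : ¬ IsMulCommutative M := by
    intro hc
    rw [isMulCommutative_iff] at hc
    set Z : Subgroup M := zpowers (⟨π t, htM⟩ : M) with hZ
    have hZn : Z.Normal := by
      refine ⟨fun a ha b => ?_⟩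
      rw [hc b a, mul_assoc, mul_inv_cancel, mul_one]
      exact ha
    rcases hZn.eq_bot_or_eq_top with h1 | h1
    · have : (⟨π t, htM⟩ : M) ∈ Z := mem_zpowers _
      rw [h1, mem_bot] at this
      exact hfb.inv_t.2 (congrArg Subtype.val this)
    · have h2 : (⟨π u, huM⟩ : M) ∈ Z := by rw [h1]; exact mem_top _
      have hcard : Nat.card Z = 2 := by
        rw [hZ, Nat.card_zpowers, Subgroup.orderOf_mk]
        exact hfb.inv_t.orderOf_eq
      obtain ⟨n, hn⟩ := h2
      have hn' : (π t) ^ n = π u := congrArg Subtype.val hn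
      rcases Int.even_or_odd' n with ⟨m, hm | hm⟩
      · rw [hm, zpow_mul, zpow_ofNat, sq, hfb.inv_t.1, one_zpow] at hn'
        exact hfb.inv_u.2 hn'.symm
      · rw [hm, zpow_add, zpow_mul, zpow_ofNat, sq, hfb.inv_t.1, one_zpow, one_mul, zpow_one] at hn'
        exact hfb.ne hn'.symm
  -- `C0` maps onto `M`
  have hmapC : C0.map π = M := by
    have h1 : C0.map π ≤ M := by
      rintro _ ⟨y, hy, rfl⟩
      exact hy.1
    have h2 : (C0.map π).Normal := hC0n.map _ hπs
    have h3 : ((C0.map π).subgroupOf M).Normal := inferInstance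
    rcases h3.eq_bot_or_eq_top with h4 | h4
    · exfalso
      rw [subgroupOf_eq_bot, disjoint_iff] at h4
      have h5 : π t ∈ C0.map π ⊓ M := ⟨⟨t, htC, rfl⟩, htM⟩
      rw [h4, mem_bot] at h5
      exact hfb.inv_t.2 h5
    · exact le_antisymm h1 (subgroupOf_eq_top.1 h4)
  -- the map `f : C0 → M`
  have hfM : ∀ y : C0, π y ∈ M := fun y => y.2.1
  let f : C0 →* M := (π.comp C0.subtype).codRestrict M hfM
  have hf : Function.Surjective f := by
    rintro ⟨m, hm⟩
    rw [← hmapC] at hm
    obtain ⟨y, hy, rfl⟩ := hm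
    exact ⟨⟨y, hy⟩, rfl⟩
  have hfk : f.ker ≤ center C0 := by
    intro y hy
    rw [MonoidHom.mem_ker] at hy
    have hyO : (y : H) ∈ O := (hπO _).1 (congrArg Subtype.val hy)
    rw [mem_center_iff]
    intro z
    apply Subtype.ext
    exact ((mem_centralizer_iff.1 z.2.2) y hyO).symm
  obtain ⟨e⟩ := nonempty_equiv_of_surjective hMs hMna f hf hfk
  have hs0 : IsSimpleGroup (C0 ⧸ center C0) := e.isSimpleGroup
  have hna0 : ¬ IsMulCommutative (C0 ⧸ center C0) := by
    intro hc
    apply hMna
    rw [isMulCommutative_iff] at hc ⊢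
    intro a b
    have := hc (e.symm a) (e.symm b)
    apply e.symm.injective
    rw [map_mul, map_mul, this]
  obtain ⟨hsup, hqs⟩ := Cfsg.Agent.S1258.result hs0 hna0
  set D := commutator C0 with hD
  set L := D.map C0.subtype with hL
  have hLeq : L = ⁅C0, C0⁆ := by
    rw [hL, hD]
    exact Subgroup.map_subtype_commutator C0
  have hLn : L.Normal := by rw [hLeq]; infer_instance
  have hLC : L ≤ C0 := map_subtype_le _
  have hDperf : ⁅D, D⁆ = D := Subgroup.isPerfect_iff.1 hqs.1
  have hLperf : ⁅L, L⁆ = L := by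
    rw [hL, ← Subgroup.map_commutator, hDperf]
  have hmapL : L.map π = M := by
    rw [hLeq, Subgroup.map_commutator, hmapC]
    have h1 : (⁅M, M⁆ : Subgroup (H ⧸ O)) = (commutator M).map M.subtype :=
      (Subgroup.map_subtype_commutator M).symm
    rw [h1]
    have h2 : commutator M = ⊤ := by
      rcases (inferInstance : (commutator M).Normal).eq_bot_or_eq_top with h3 | h3
      · exfalso
        apply hMna
        rw [isMulCommutative_iff]
        intro a b
        have := (commutator_eq_bot_iff_center_eq_top M).1 h3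
        have ha : a ∈ center M := by rw [this]; exact mem_top a
        exact ((mem_center_iff.1 ha) b).symm
      · exact h3
    rw [h2, ← MonoidHom.range_eq_map, range_subtype]
  have hgM : ∀ y : L, π y ∈ M := fun y => (hLC y.2).1
  let g : L →* M := (π.comp L.subtype).codRestrict M hgM
  have hg : Function.Surjective g := by
    rintro ⟨m, hm⟩
    rw [← hmapL] at hm
    obtain ⟨y, hy, rfl⟩ := hm
    exact ⟨⟨y, hy⟩, rfl⟩
  have hgO : ∀ y : L, g y = 1 ↔ (y : H) ∈ O := by
    intro y
    rw [← hπO]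
    exact ⟨fun hh => congrArg Subtype.val hh, fun hh => Subtype.ext hh⟩
  have hLcent : L ≤ centralizer (O : Set H) := hLC.trans inf_le_right
  have hgk : g.ker ≤ center L := by
    intro y hy
    rw [MonoidHom.mem_ker, hgO] at hy
    rw [mem_center_iff]
    intro z
    apply Subtype.ext
    exact ((mem_centralizer_iff.1 (hLcent z.2)) y hy).symm
  have hcg := center_of_surjective hMs hMna g hg hgk
  obtain ⟨e'⟩ := nonempty_equiv_of_surjective hMs hMna g hg hgk
  have hmem : ∀ v ∈ C0, v * v = 1 → v ∈ L := by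
    intro v hv hvv
    have h1 : π v ∈ L.map π := by rw [hmapL]; exact hv.1
    obtain ⟨l, hl, hlv⟩ := h1
    have h2 : l⁻¹ * v ∈ O := by
      rw [← hπO, map_mul, map_inv, hlv, inv_mul_cancel]
    have h3 : v = l * (l⁻¹ * v) := by group
    rw [h3]
    refine mul_mem_of_odd hodd hl h2 ?_ ?_
    · exact ((mem_centralizer_iff.1 (hLcent hl)) _ h2).symm
    · rw [← h3]; exact hvv
  refine ⟨L, ⟨hLn, hLcent, hLperf, e'.isSimpleGroup, ?_, ?_, ?_⟩, hmem t htC h.inv_t.1,
    hmem u huC h.inv_u.1⟩
  · rcases (gwConcl_def _).1 hGW with ⟨F, _, _, h1, h2, ⟨e1⟩⟩ | h1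
    · exact Or.inl ⟨F, _, _, h1, h2, ⟨e'.trans e1⟩⟩
    · exact Or.inr (h1.map fun e1 => e'.trans e1)
  · rw [hcg]
    ext y
    constructor
    · rintro ⟨z, hz, rfl⟩
      exact ⟨z.2, (hgO z).1 hz⟩
    · rintro ⟨hy, hyO⟩
      exact ⟨⟨y, hy⟩, (hgO _).2 hyO, rfl⟩
  · intro P hP
    have h1 : P ≤ B0 := by
      apply le_of_perfect_quotient hP
      apply isSolvable_of_not_four_dvd hFT
      rw [← index_eq_card, hB0, index_comap_of_surjective _ hπs]
      exact hM4
    have h2 : B0 ≤ L ⊔ O := by
      intro y hy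
      have h3 : π y ∈ L.map π := by rw [hmapL]; exact hy
      obtain ⟨l, hl, hly⟩ := h3
      have h4 : l⁻¹ * y ∈ O := by
        rw [← hπO, map_mul, map_inv, hly, inv_mul_cancel]
      have h5 : y = l * (l⁻¹ * y) := by group
      rw [h5]
      exact mul_mem (le_sup_left (a := L) hl) (le_sup_right (a := L) h4)
    exact le_of_perfect hLn hP (hFT O hodd) (h1.trans h2)

theorem exists_isCompI (hFT : OddOrder.{u}) (hA : DihAlt (H ⧸ Cfsg.oddCore H)) {t u k : H}
    (h : Fused t u k) (hOt : Cfsg.oddCore H ≤ centralizer ({t} : Set H))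
    (hOu : Cfsg.oddCore H ≤ centralizer ({u} : Set H))
    (h2 : ¬ ∃ V : Subgroup H, V.Normal ∧ IsPGroup 2 V ∧ t ∈ V) :
    ∃ L : Subgroup H, IsCompI (Cfsg.oddCore H) L ∧ t ∈ L ∧ u ∈ L := by
  have hodd : Odd (Nat.card (Cfsg.oddCore H)) := odd_card_oddCore H
  set O := Cfsg.oddCore H with hO
  have hOn : O.Normal := Cfsg.Agent.Lib.Cores.pPrimeCore_normal 2
  set π := QuotientGroup.mk' O with hπ
  have hπO : ∀ y, π y = 1 ↔ y ∈ O := fun y => QuotientGroup.eq_one_iff y
  have hfb : Fused (π t) (π u) (π k) :=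
    h.map π (fun y hy hy1 => eq_one_of_four h hodd hy ((hπO y).1 hy1))
  rcases hA with h1 | ⟨V, hVn, hV, -, hVi⟩ | ⟨M, hMn, hMs, -, hM4, hGW, -⟩
  · exfalso
    obtain ⟨n, hn⟩ := h1 (π k)
    rw [← map_pow, hπO] at hn
    exact h.false_of_pow n (mem_centralizer_singleton_iff.1 (hOt hn))
  · exfalso
    have hV4 : ¬ 4 ∣ V.index := by rcases hVi with h3 | h3 <;> rw [h3] <;> decide
    obtain ⟨htV, huV⟩ := hfb.mem_of_index hVn hV4
    have hVeq : hfb.four = V := by
      apply Subgroup.eq_of_le_of_card_ge (hfb.four_le htV huV)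
      rw [hfb.card_four, hV.card_four]
    have hfc : ∀ w ∈ h.four, ∀ o ∈ O, w * o = o * w := by
      intro w hw o ho
      have h3 : h.four ≤ centralizer (O : Set H) := by
        apply h.four_le
        · exact mem_centralizer_iff.2
            (fun y hy => mem_centralizer_singleton_iff.1 (hOt hy))
        · exact mem_centralizer_iff.2
            (fun y hy => mem_centralizer_singleton_iff.1 (hOu hy))
      exact (mem_centralizer_iff.1 (h3 hw) o ho).symm
    have hsq : ∀ w ∈ h.four, w * w = 1 := fun w hw =>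
      sq_of_mem_fourGroup h.inv_t.1 h.inv_u.1 h.comm hw
    apply h2
    refine ⟨h.four, ⟨fun v hv b => ?_⟩, ?_, h.mem_four.2 (by tauto)⟩
    · have h3 : π v ∈ V := by
        have : h.four.map π ≤ V := by
          rw [map_le_iff_le_comap]
          exact h.four_le htV huV
        exact this ⟨v, hv, rfl⟩
      have h4 : π (b * v * b⁻¹) ∈ V := by
        rw [map_mul, map_mul, map_inv]
        exact hVn.conj_mem _ h3 _
      rw [← hVeq, hfb.mem_four] at h4
      have h5 : ∃ w ∈ h.four, π w = π (b * v * b⁻¹) := by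
        rcases h4 with h4 | h4 | h4 | h4
        · exact ⟨1, one_mem _, by rw [h4, map_one]⟩
        · exact ⟨t, h.mem_four.2 (by tauto), h4.symm⟩
        · exact ⟨u, h.mem_four.2 (by tauto), h4.symm⟩
        · exact ⟨t * u, h.mem_four.2 (by tauto), by rw [h4, map_mul]⟩
      obtain ⟨w, hw, hwb⟩ := h5
      have h6 : w⁻¹ * (b * v * b⁻¹) ∈ O := by
        rw [← hπO, map_mul, map_inv, hwb, inv_mul_cancel]
      set o := w⁻¹ * (b * v * b⁻¹) with ho
      have h7 : b * v * b⁻¹ = w * o := by rw [ho]; group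
      have h8 : (w * o) * (w * o) = 1 := by
        rw [← h7]
        calc b * v * b⁻¹ * (b * v * b⁻¹) = b * (v * v) * b⁻¹ := by group
          _ = 1 := by rw [hsq v hv]; group
      have h9 : o * o = 1 := by
        calc o * o = (w * w) * (o * o) := by rw [hsq w hw, one_mul]
          _ = w * (w * o) * o := by group
          _ = w * (o * w) * o := by rw [hfc w hw o h6]
          _ = (w * o) * (w * o) := by group
          _ = 1 := h8
      have h10 : o = 1 := eq_one_of_sq hodd h6 h9
      rw [h7, h10, mul_one]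
      exact hw
    · exact IsPGroup.of_card (n := 2) (by rw [h.card_four]; norm_num)
  · exact exists_of_simple hFT hodd M hMn hMs hM4 hGW h hOt hOu

end main

section ambient

variable {G : Type u} [Group G] [Finite G]

theorem oc_eq_map (X : Subgroup G) : oc X = (Cfsg.oddCore X).map X.subtype := by
  have hn : (Cfsg.oddCore X).Normal := Cfsg.Agent.Lib.Cores.pPrimeCore_normal 2
  apply le_antisymm
  · have h1 : ((oc X).subgroupOf X).Normal := by
      rw [normal_subgroupOf_iff (oc_le X)]
      intro a b ha hb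
      exact (mem_normalizer_iff.1 (le_normalizer_oc X hb) a).1 ha
    have h2 : (oc X).subgroupOf X ≤ Cfsg.oddCore X := by
      apply Cfsg.Agent.Lib.Cores.le_pPrimeCore h1
      rw [Nat.coprime_two_right, Nat.card_congr (subgroupOfEquivOfLe (oc_le X)).toEquiv]
      exact odd_oc X
    have h3 := Subgroup.map_mono (f := X.subtype) h2
    rwa [map_subgroupOf_eq_of_le (oc_le X)] at h3
  · apply le_oc (map_subtype_le _)
    · intro g hg
      apply mem_normalizer_of_conj
      rintro _ ⟨n, hn', rfl⟩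
      exact ⟨⟨g, hg⟩ * n * ⟨g, hg⟩⁻¹, hn.conj_mem n hn' _, rfl⟩
    · rw [card_map_of_injective (subtype_injective _)]
      exact odd_card_oddCore X

omit [Finite G] in
theorem map_center_equiv {A B : Type*} [Group A] [Group B] (e : A ≃* B) :
    (center A).map e.toMonoidHom = center B := by
  ext b
  constructor
  · rintro ⟨a, ha, rfl⟩
    rw [mem_center_iff]
    intro c
    have h1 := (mem_center_iff.1 ha) (e.symm c)
    have h2 := congrArg e h1
    rw [map_mul, map_mul, e.apply_symm_apply] at h2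
    exact h2
  · intro hb
    refine ⟨e.symm b, ?_, e.apply_symm_apply b⟩
    show e.symm b ∈ center A
    rw [mem_center_iff]
    intro c
    have h1 := (mem_center_iff.1 hb) (e c)
    have h2 := congrArg e.symm h1
    rw [map_mul, map_mul, e.symm_apply_apply] at h2
    exact h2

/-- `L` is the component of `C(x)`. -/
structure IsComp (x : G) (L : Subgroup G) : Prop where
  le : L ≤ centralizer ({x} : Set G)
  normal : centralizer ({x} : Set G) ≤ normalizer (L : Set G)
  cent : L ≤ centralizer (oc (centralizer ({x} : Set G)) : Set G)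
  perfect : ⁅L, L⁆ = L
  simple : IsSimpleGroup (L ⧸ center L)
  gw : GWConcl (L ⧸ center L)
  center_eq : (center L).map L.subtype = L ⊓ oc (centralizer ({x} : Set G))
  perf_le : ∀ P : Subgroup G, P ≤ centralizer ({x} : Set G) → ⁅P, P⁆ = P → P ≤ L

theorem IsCompI.isComp {x : G} {B : Subgroup G} (hB : B = centralizer ({x} : Set G))
    {L : Subgroup B} (h : IsCompI (Cfsg.oddCore B) L) : IsComp x (L.map B.subtype) := by
  have hinj : Function.Injective B.subtype := subtype_injective _
  let e : L ≃* L.map B.subtype := L.equivMapOfInjective B.subtype hinj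
  have he : ∀ y : L, ((e y : L.map B.subtype) : G) = ((y : B) : G) := fun y => rfl
  have hce := map_center_equiv e
  let e2 : L ⧸ center L ≃* (L.map B.subtype) ⧸ center (L.map B.subtype) :=
    QuotientGroup.congr _ _ e hce
  refine ⟨hB ▸ map_subtype_le _, ?_, ?_, ?_, ?_, ?_, ?_, ?_⟩
  · rw [← hB]
    intro g hg
    apply mem_normalizer_of_conj
    rintro _ ⟨n, hn, rfl⟩
    exact ⟨⟨g, hg⟩ * n * ⟨g, hg⟩⁻¹, h.normal.conj_mem n hn _, rfl⟩
  · rw [← hB, oc_eq_map]
    rintro _ ⟨n, hn, rfl⟩
    rw [mem_centralizer_iff]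
    rintro _ ⟨o, ho, rfl⟩
    exact congrArg Subtype.val ((mem_centralizer_iff.1 (h.cent hn)) o ho)
  · rw [← Subgroup.map_commutator, h.perfect]
  · have := h.simple
    exact e2.symm.isSimpleGroup
  · rcases (gwConcl_def _).1 h.gw with ⟨F, _, _, h1, h2, ⟨e1⟩⟩ | h1
    · exact Or.inl ⟨F, _, _, h1, h2, ⟨e2.symm.trans e1⟩⟩
    · exact Or.inr (h1.map fun e1 => e2.symm.trans e1)
  · rw [← hB, ← hce, oc_eq_map, Subgroup.map_map]
    have h1 : ((L.map B.subtype).subtype.comp e.toMonoidHom) = B.subtype.comp L.subtype := rfl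
    rw [h1, ← Subgroup.map_map, h.center_eq, Subgroup.map_inf _ _ _ hinj]
  · rw [← hB]
    intro P hP hPP
    have h1 : P.subgroupOf B ≤ L := by
      apply h.perf_le
      apply Subgroup.map_injective hinj
      rw [Subgroup.map_commutator, map_subgroupOf_eq_of_le hP, hPP]
    have h2 := Subgroup.map_mono (f := B.subtype) h1
    rwa [map_subgroupOf_eq_of_le hP] at h2

variable {t u x : G}

/-- The component of `C(x)` for a good pair. -/
theorem exists_isComp (h : ZHyp G t) (g : Good t u x) : ∃ L, IsComp x L ∧ t ∈ L ∧ u ∈ L := by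
  obtain ⟨k, hkx, hkt, hku⟩ := g.fused
  set B := centralizer ({x} : Set G) with hB
  have hBt : B ≠ ⊤ := by
    intro hBt
    have h1 : x ∈ center G := by
      rw [mem_center_iff]
      intro y
      have : y ∈ B := by rw [hBt]; exact mem_top y
      exact mem_centralizer_singleton_iff.1 this
    have := h.simple
    rcases (inferInstance : (center G).Normal).eq_bot_or_eq_top with h2 | h2
    · rw [h2, mem_bot] at h1
      exact g.ne_one h1
    · apply h.nonab
      rw [isMulCommutative_iff]
      intro a b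
      have ha : a ∈ center G := by rw [h2]; exact mem_top a
      exact ((mem_center_iff.1 ha) b).symm
  have hA := h.alt B hBt
  have htB : t ∈ B := mem_centralizer_singleton_iff.2 g.comm_t.symm
  have huB : u ∈ B := mem_centralizer_singleton_iff.2 g.comm_u.symm
  have hkB : k ∈ B := mem_centralizer_singleton_iff.2 hkx
  have hF : Fused (⟨t, htB⟩ : B) ⟨u, huB⟩ ⟨k, hkB⟩ :=
    ⟨⟨Subtype.ext h.inv.1, fun hh => h.inv.2 (congrArg Subtype.val hh)⟩,
      ⟨Subtype.ext g.inv_u.1, fun hh => g.inv_u.2 (congrArg Subtype.val hh)⟩,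
      Subtype.ext g.comm, fun hh => g.ne (congrArg Subtype.val hh),
      Subtype.ext hkt, Subtype.ext hku⟩
  have key := exists_isCompI h.ft hA hF ?_ ?_ ?_
  · obtain ⟨L, hL, htL, huL⟩ := key
    exact ⟨L.map B.subtype, hL.isComp hB, ⟨_, htL, rfl⟩, ⟨_, huL, rfl⟩⟩
  · intro y hy
    have h1 : (y : G) ∈ oc B := by rw [oc_eq_map]; exact ⟨y, hy, rfl⟩
    rw [mem_centralizer_singleton_iff]
    exact Subtype.ext (mem_centralizer_singleton_iff.1 (g.oc_le_centralizer h h1))
  · intro y hy
    have h1 : (y : G) ∈ oc B := by rw [oc_eq_map]; exact ⟨y, hy, rfl⟩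
    rw [mem_centralizer_singleton_iff]
    exact Subtype.ext (mem_centralizer_singleton_iff.1 (g.oc_le_centralizer_u h h1))
  · rintro ⟨V, hVn, hV2, htV⟩
    have hVle : V.map B.subtype ≤ piCoreOf {2} B := by
      apply FitCores.le_core_of_isPGroup Nat.prime_two (map_subtype_le _)
      · intro b hb
        apply mem_normalizer_of_conj
        rintro _ ⟨n, hn', rfl⟩
        exact ⟨⟨b, hb⟩ * n * ⟨b, hb⟩⁻¹, hVn.conj_mem n hn' _, rfl⟩
      · exact hV2.map _
    have huV : (⟨u, huB⟩ : B) ∈ V := by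
      have h2 := hVn.conj_mem _ htV ⟨k, hkB⟩
      have h3 : (⟨k, hkB⟩ * ⟨t, htB⟩ * (⟨k, hkB⟩ : B)⁻¹ : B) = ⟨u, huB⟩ := Subtype.ext hkt
      rwa [h3] at h2
    have huc : u ∈ piCoreOf {2} B := hVle ⟨_, huV, rfl⟩
    have h4 : Kc t ≤ centralizer ({u} : Set G) := by
      rw [← zpowers_le_centralizer_iff]
      have hodd := odd_Kc t
      apply FitCores.le_centralizer_of_centralizes_fitting _ (h.ft _ hodd)
        (coprime_of_odd hodd g.inv_u)
      · rw [zpowers_le_centralizer_iff]
        intro z hz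
        rw [mem_centralizer_singleton_iff]
        exact (h.core_two g.mem_fit huc hz).symm
      · rw [zpowers_le]
        exact normalizer_Kc_le t (mem_centralizer_singleton_iff.2 g.comm.symm)
    have h5 := h.core_eq_bot g.inv_u g.ne h4
    have h6 := g.mem_Kc
    rw [h5, mem_bot] at h6
    exact g.ne_one h6

end ambient

end Cfsg.Agent.Classification.TypeZ.Comp
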