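import Mathlib
import Cfsg.Agent.S0093
import Cfsg.Agent.S0121
import Cfsg.Agent.Lib.CoprimeStab
import Cfsg.Agent.Lib.FrattiniPGroup
set_option linter.all false

/-!
# Critical subgroups in ambient form

For an odd prime `p` and a `p`-subgroup `P` of `G`: a critical subgroup `C` of `P` and the subgroup
`E` of its elements of exponent `p`.
-/

set_option autoImplicit false

namespace Cfsg.Agent.Classification.TypeZ.Critical

open Subgroup
open scoped commutatorElement

/-- If a `p'`-automorphism `a` of a finite `p`-group fixes `x⁻¹ * a x`, then it fixes `x`. -/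
theorem fix_of_fix_div {G : Type*} [Group G] {p : ℕ} (hG : IsPGroup p G)
    (a : MulAut G) (ha : (orderOf a).Coprime p) (x : G) (hz : a (x⁻¹ * a x) = x⁻¹ * a x) :
    a x = x := by
  set z : G := x⁻¹ * a x with hzdef
  have hax : a x = x * z := by rw [hzdef]; group
  have key : ∀ n : ℕ, (a ^ n) x = x * z ^ n := by
    intro n
    induction n with
    | zero => simp
    | succ n ih =>
      rw [pow_succ', MulAut.mul_apply, ih, map_mul, map_pow, hz, hax, pow_succ', mul_assoc]
  have h7 := key (orderOf a)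
  rw [pow_orderOf_eq_one, MulAut.one_apply] at h7
  have h8 : z ^ orderOf a = 1 := by
    have : x * 1 = x * z ^ orderOf a := by rw [mul_one]; exact h7
    exact (mul_left_cancel this).symm
  obtain ⟨k, hk⟩ := hG z
  have h9 : orderOf z ∣ orderOf a := orderOf_dvd_of_pow_eq_one h8
  have h10 : orderOf z ∣ p ^ k := orderOf_dvd_of_pow_eq_one hk
  have h11 : orderOf z ∣ 1 := by
    have hc : Nat.Coprime (orderOf a) (p ^ k) := Nat.Coprime.pow_right k ha
    rw [← hc]
    exact Nat.dvd_gcd h9 h10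
  have h12 : z = 1 := by
    rw [← orderOf_eq_one_iff]
    exact Nat.dvd_one.mp h11
  rw [hax, h12, mul_one]

/-- critical subgroup `C` and the subgroup `H` of its elements of exponent `p` -/
theorem exists_critical_group {R : Type*} [Group R] [Finite R] {p : ℕ} [hpf : Fact p.Prime]
    (hp : p ≠ 2) (hR : IsPGroup p R) :
    ∃ C H : Subgroup R, C.Characteristic ∧ H.Characteristic ∧ (∀ x, x ∈ H ↔ x ∈ C ∧ x ^ p = 1) ∧
      (∀ x ∈ C, ∀ y, ∀ z ∈ C, Commute ⁅x, y⁆ z) ∧ centralizer (C : Set R) ≤ C ∧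
      ∀ a : MulAut R, (orderOf a).Coprime p → (∀ x ∈ H, a x = x) → a = 1 := by
  obtain ⟨C, hC, h1, h2, h3⟩ := Cfsg.Agent.S0093.result hR
  have hpc : ∀ x ∈ C, ∀ y ∈ C, Commute (x ^ p) y := by
    intro x hx y hy
    have h4 : (⟨x, hx⟩ : C) ^ p ∈ frattini C :=
      Cfsg.Agent.Lib.FrattiniPGroup.pow_mem_frattini (hR.to_subgroup C) _
    have h5 : x ^ p ∈ Subgroup.centralizer (C : Set R) := h1 ⟨_, h4, rfl⟩
    exact (Subgroup.mem_centralizer_iff.1 h5 y hy).symm
  have hcc : ∀ x ∈ C, ∀ y, ∀ z ∈ C, Commute ⁅x, y⁆ z := by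
    intro x hx y z hz
    have h4 : ⁅x, y⁆ ∈ C ⊓ Subgroup.centralizer (C : Set R) :=
      h2 (Subgroup.commutator_mem_commutator hx (Subgroup.mem_top y))
    exact (Subgroup.mem_centralizer_iff.1 h4.2 z hz).symm
  have hmul : ∀ x ∈ C, ∀ y ∈ C, (x * y) ^ p = x ^ p * y ^ p := by
    intro x hx y hy
    exact Cfsg.Agent.Lib.CoprimeStab.mul_pow_prime_of_class_two hpf.out hp (hcc y hy x x hx)
      (hcc y hy x y hy) (hpc x hx y hy)
  let H : Subgroup R :=
    { carrier := {x | x ∈ C ∧ x ^ p = 1}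
      one_mem' := ⟨C.one_mem, one_pow p⟩
      mul_mem' := by
        rintro x y ⟨hx, hx'⟩ ⟨hy, hy'⟩
        exact ⟨C.mul_mem hx hy, by rw [hmul x hx y hy, hx', hy', one_mul]⟩
      inv_mem' := by
        rintro x ⟨hx, hx'⟩
        exact ⟨C.inv_mem hx, by rw [inv_pow, hx', inv_one]⟩ }
  have hHC : ∀ x, x ∈ H ↔ x ∈ C ∧ x ^ p = 1 := fun x => Iff.rfl
  have hCa : ∀ (a : MulAut R) (x : R), x ∈ C → a x ∈ C := by
    intro a x hx
    have := (Subgroup.characteristic_iff_le_comap.1 hC) a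
    exact this hx
  refine ⟨C, H, hC, ?_, hHC, hcc, h3, ?_⟩
  · rw [Subgroup.characteristic_iff_le_comap]
    intro φ x hx
    refine ⟨hCa φ x hx.1, ?_⟩
    have h4 : (φ x) ^ p = 1 := by rw [← map_pow, hx.2, map_one]
    exact h4
  · intro a ha hfix
    have key : ∀ n : ℕ, ∀ x ∈ C, x ^ (p ^ n) = 1 → a x = x := by
      intro n
      induction n with
      | zero =>
        intro x _ hx
        rw [pow_zero, pow_one] at hx
        rw [hx, map_one]
      | succ n ih =>
        intro x hx hxn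
        rw [pow_succ', pow_mul] at hxn
        have h4 := ih (x ^ p) (C.pow_mem hx p) hxn
        apply fix_of_fix_div hR a ha
        apply hfix
        refine ⟨C.mul_mem (C.inv_mem hx) (hCa a x hx), ?_⟩
        rw [hmul _ (C.inv_mem hx) _ (hCa a x hx), ← map_pow, h4, inv_pow, inv_mul_cancel]
    refine Cfsg.Agent.S0121.result hR C hC h1 h2 h3 a ha ?_
    intro x hx
    obtain ⟨n, hn⟩ := hR x
    exact key n x hx hn

variable {G : Type*} [Group G]

/-- a characteristic subgroup of `P` is normalised by `N(P)` -/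
theorem normalizer_le_of_characteristic [Finite G] (P : Subgroup G) (N : Subgroup P)
    (hN : N.Characteristic) :
    normalizer (P : Set G) ≤ normalizer (N.map P.subtype : Set G) := by
  have key : ∀ g ∈ normalizer (P : Set G), ∀ x ∈ N.map P.subtype,
      g * x * g⁻¹ ∈ N.map P.subtype := by
    rintro g hg _ ⟨x, hx, rfl⟩
    let φ : MulAut P := P.normalizerMonoidHom ⟨g, hg⟩
    have hφ : ∀ y : P, ((φ y : P) : G) = g * y * g⁻¹ := fun y => rfl
    have h1 : φ x ∈ N := by
      have := (Subgroup.characteristic_iff_map_le.mp hN) φ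
      exact this (Subgroup.mem_map_of_mem _ hx)
    exact ⟨φ x, h1, hφ x⟩
  intro g hg
  rw [mem_normalizer_iff]
  intro x
  refine ⟨key g hg x, fun hx => ?_⟩
  have := key g⁻¹ (inv_mem hg) _ hx
  have h2 : g⁻¹ * (g * x * g⁻¹) * g⁻¹⁻¹ = x := by group
  rwa [h2] at this

/-- Critical subgroup in ambient form. -/
theorem exists_critical [Finite G] {p : ℕ} [hpf : Fact p.Prime] (hp : p ≠ 2) {P : Subgroup G}
    (hP : IsPGroup p P) :
    ∃ C E : Subgroup G, C ≤ P ∧ E ≤ C ∧ normalizer (P : Set G) ≤ normalizer (C : Set G) ∧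
      normalizer (P : Set G) ≤ normalizer (E : Set G) ∧ (∀ x, x ∈ E ↔ x ∈ C ∧ x ^ p = 1) ∧
      (∀ x ∈ C, ∀ y ∈ P, ∀ z ∈ C, Commute ⁅x, y⁆ z) ∧
      P ⊓ centralizer (C : Set G) ≤ C ∧
      ∀ g ∈ normalizer (P : Set G), (orderOf g).Coprime p → (∀ x ∈ E, g * x = x * g) →
        ∀ x ∈ P, g * x = x * g := by
  obtain ⟨C, H, hC, hH, hHC, hcc, hCC, hfix⟩ := exists_critical_group (R := P) hp hP
  refine ⟨C.map P.subtype, H.map P.subtype, map_subtype_le _, ?_, ?_, ?_, ?_, ?_, ?_, ?_⟩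
  · exact map_mono fun x hx => ((hHC x).1 hx).1
  · exact normalizer_le_of_characteristic P C hC
  · exact normalizer_le_of_characteristic P H hH
  · intro x
    constructor
    · rintro ⟨y, hy, rfl⟩
      have h1 := (hHC y).1 hy
      refine ⟨⟨y, h1.1, rfl⟩, ?_⟩
      rw [← map_pow, h1.2, map_one]
    · rintro ⟨⟨y, hy, rfl⟩, h2⟩
      refine ⟨y, (hHC y).2 ⟨hy, ?_⟩, rfl⟩
      apply P.subtype_injective
      rw [map_pow, h2, map_one]
  · rintro _ ⟨x, hx, rfl⟩ y hy _ ⟨z, hz, rfl⟩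
    have h1 := hcc x hx ⟨y, hy⟩ z hz
    exact h1.map P.subtype
  · rintro x ⟨hxP, hxC⟩
    refine ⟨⟨x, hxP⟩, hCC ?_, rfl⟩
    rw [mem_centralizer_iff]
    intro y hy
    apply Subtype.ext
    exact mem_centralizer_iff.1 hxC y ⟨y, hy, rfl⟩
  · intro g hg hgp hgE x hx
    let φ : MulAut P := P.normalizerMonoidHom ⟨g, hg⟩
    have hφ : ∀ y : P, ((φ y : P) : G) = g * y * g⁻¹ := fun y => rfl
    have h1 : φ = 1 := by
      apply hfix
      · have h3 : orderOf φ ∣ orderOf (⟨g, hg⟩ : normalizer (P : Set G)) := orderOf_map_dvd _ _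
        rw [Subgroup.orderOf_mk] at h3
        exact Nat.Coprime.coprime_dvd_left h3 hgp
      · intro y hy
        apply Subtype.ext
        rw [hφ, hgE y ⟨y, hy, rfl⟩]
        group
    have h2 := hφ ⟨x, hx⟩
    rw [h1] at h2
    have h3 : x = g * x * g⁻¹ := h2
    calc g * x = (g * x * g⁻¹) * g := by group
      _ = x * g := by rw [← h3]

end Cfsg.Agent.Classification.TypeZ.Critical
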